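import Cfsg.Agent.SB.SporF.J2.Data

/-! S5765, row of J2: kernel checks (generated by notes/SB/spor_tools, helper63) -/

set_option autoImplicit false

namespace Cfsg.Agent.SB.SporF.J2

open Cfsg.Agent.SB Cfsg.Agent.SB.Spor

set_option Elab.async false

noncomputable def d21 : ℕ → ℕ :=
  (rd (nat_lit 6) (nat_lit 63) [nat_lit 0x74105624170b38960b11c28e2014cb2400830c708234608d0c34851520830c51430c348d1471460870831d12ca04110104c9c198f39020494444928125121b1171040416d005164810944406441324c5898c920a21104b0554001860921461450cd08208335a1c51420861c768234324a2c104a04164a0482105532045c824f0482ca8811172c404a24125058c30e10454c3c44045212842931012c160880928138e3c93083c11017cf78b3c404130b50c05438014d1c54830821821c3186140, nat_lit 0x61c70821820831820c70c61470c31c318214719d208041])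

theorem c30 : chkS' lk mk (nsC lk B wp4) g3_1_6 t59 1 0 d21 = true := by
  decide +kernel

noncomputable def d13 : ℕ → ℕ :=
  (rd (nat_lit 6) (nat_lit 63) [nat_lit 0x9c00c30070c40260811006892049400ca38790e0052091c85c10068d104a4c11004c81d609c1222401612090c504638b01c3013820c304d56000208b64208b0d51186c014c5841c27c214f4440803147920831883411460810071c558a6c14462816891010150820cd40564904d05810538014740b0d10411820420c104b04018f2dd0880c32465cd31024310f0020c749408c40a5042024c13c648a000])

theorem c18 : chkS' lk mk (nsC lk B wp0) g7_1_3 t55 1 0 d13 = true := by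
  decide +kernel

noncomputable def d19 : ℕ → ℕ :=
  (rd (nat_lit 4) (nat_lit 15) [nat_lit 0x662205340663121510131131201412134206311224141505221131913106511231c877b80195221011145322122141062422522121491113063491111225122243120132114417a7877780122442311100])

theorem c27 : chkS' lk mk (nsC lk B wp3) g7_1_3 t58 2 0 d19 = true := by
  decide +kernel

noncomputable def d15 : ℕ → ℕ :=
  (rd (nat_lit 4) (nat_lit 15) [nat_lit 0x60630731072710137320121717073111710221243410131141432012124385858901120322195580141424032221362631603221424195555a580141103222631213611600])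

theorem c21 : chkS' lk mk (nsC lk B wp1) g2_4_8 t56 2 0 d15 = true := by
  decide +kernel

noncomputable def d3 : List (ℕ × ℕ × ℕ) :=
  [(nat_lit 0, t21, nat_lit 0xf070d0d1010), (nat_lit 1, t22, nat_lit 0), (nat_lit 0, t23, nat_lit 0xe040d0b08111212), (nat_lit 1, t24, nat_lit 0), (nat_lit 0, t25, nat_lit 0xa06050c0b121314), (nat_lit 1, t26, nat_lit 0), (nat_lit 0, t27, nat_lit 0xb0e07140d0c15131216), (nat_lit 1, t28, nat_lit 0), (nat_lit 0, t29, nat_lit 0xd0c091110181714), (nat_lit 1, t30, nat_lit 0), (nat_lit 0, t31, nat_lit 0xf120b111319181a1a), (nat_lit 1, t32, nat_lit 0), (nat_lit 0, t33, nat_lit 0xd0e151b1a), (nat_lit 1, t34, nat_lit 0), (nat_lit 0, t35, nat_lit 0x13120f1e161c1d1c), (nat_lit 1, t36, nat_lit 0), (nat_lit 0, t37, nat_lit 0x121419181e20), (nat_lit 1, t38, nat_lit 0), (nat_lit 0, t39, nat_lit 0x1f151822181e211e), (nat_lit 1, t40, nat_lit 0), (nat_lit 0, t41, nat_lit 0x1c1b151a241a22222124), (nat_lit 1, t42, nat_lit 0), (nat_lit 0, t43, nat_lit 0x2318211c1d22222226), (nat_lit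 1, t44, nat_lit 0), (nat_lit 0, t45, nat_lit 0x201f1922232827), (nat_lit 1, t46, nat_lit 0), (nat_lit 0, t47, nat_lit 0x221e2521202828272a), (nat_lit 1, t48, nat_lit 0), (nat_lit 0, t49, nat_lit 0x271f28242b28), (nat_lit 1, t50, nat_lit 0), (nat_lit 0, t51, nat_lit 0x22202b272a2e), (nat_lit 1, t52, nat_lit 0), (nat_lit 0, t53, nat_lit 0x27252329282c2d2c), (nat_lit 1, t54, nat_lit 0), (nat_lit 0, t55, nat_lit 0x27252c28302f), (nat_lit 0, t56, nat_lit 0x2b2624332b32313333), (nat_lit 0, t57, nat_lit 0x312e252e342a3334), (nat_lit 0, t58, nat_lit 0x2f27312d3131313535), (nat_lit 0, t59, nat_lit 0x2f2a272f2e3333), (nat_lit 0, t60, nat_lit 0x2929362f3433), (nat_lit 0, t61, nat_lit 0x302a2f2e3837343838)]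

theorem c3 : slp lk ver d3 E = true := by
  decide +kernel

noncomputable def d23 : ℕ → ℕ :=
  (rd (nat_lit 5) (nat_lit 31) [nat_lit 0x42452388210b5a48850911926088645412f09cc7521852306c5a063590645944a394c51842e08440])

theorem c33 : chkP' lk mk (nsC lk B wp5) g2_2_5 g2_5_8 t60 0 d23 = true := by
  decide +kernel

noncomputable def d25 : ℕ → ℕ :=
  (rd (nat_lit 5) (nat_lit 31) [nat_lit 0x5161d21094cb3850c124810c085195ee108c2191051a42a6a08b50c4730820])

theorem c36 : chkP' lk mk (nsC lk B wp6) g5_0_2 g5_2_3 t61 0 d25 = true := by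
  decide +kernel

noncomputable def d17 : ℕ → ℕ :=
  (rd (nat_lit 4) (nat_lit 15) [nat_lit 0x226111124853271615430])

theorem c24 : chkP' lk mk (nsC lk B wp2) g7_1_2 g7_2_3 t57 0 d17 = true := by
  decide +kernel

noncomputable def d1 : List (ℕ × ℕ × ℕ) :=
  [(nat_lit 0, t5, nat_lit 0x20504010301050101), (nat_lit 0, t6, nat_lit 0x10602010405050405), (nat_lit 0, t7, nat_lit 0x3070101), (nat_lit 0, t8, nat_lit 0x3080208), (nat_lit 0, t9, nat_lit 0x9080403), (nat_lit 0x30402, t10, nat_lit 0x10202), (nat_lit 0x30304, t11, nat_lit 0x20403), (nat_lit 0x10304, t12, nat_lit 0x30204), (nat_lit 1030, t13, nat_lit 0x20404), (nat_lit 0, t14, nat_lit 0x40202), (nat_lit 0x40709, t15, nat_lit 0x70107), (nat_lit 4, t16, nat_lit 0x30606), (nat_lit 1794, t17, nat_lit 0x70507), (nat_lit 263, t18, nat_lit 0x70304), (nat_lit 0x30508, t19, nat_lit 0x70606), (nat_lit 259, t20, nat_lit 0x10204)]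

theorem c1 : slp lk ver d1 E0 = true := by
  decide +kernel

noncomputable def d26 : ℕ → ℕ :=
  (rd (nat_lit 17) (nat_lit 0x1ffff) [nat_lit 0x6801c000c8007100320009700778030001460082004080200014a018100c200600034a01230080804240288003400020009400200040000080000002002000104004000208010001410040000])

theorem c38 : covChk lk B 2 g2_1_1 g2_1_8 g2_1_8 cl2 d26 0 = true := by
  decide +kernel

theorem c41 : fuse lk B E g5_1_3 r5 fz5 = true := by
  decide +kernel

noncomputable def d24 : List (ℕ × List ℕ) :=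
  [(nat_lit 14, [nat_lit 0xa03080810, nat_lit 0xb0902090e]), (nat_lit 0, [nat_lit 0x703020609060f10])]

theorem c35 : Nat.ble 42 (chain lk E 100 (okN lk B t61 7) d24 []) = true := by
  decide +kernel

noncomputable def d28 : ℕ → ℕ :=
  (rd (nat_lit 5) (nat_lit 31) [nat_lit 0x1793503b45871560b3068f5141372480])

theorem c42 : covChk lk B 5 g5_1_1 g5_1_3 g5_1_3 cl5 d28 0 = true := by
  decide +kernel

noncomputable def d22 : List (ℕ × List ℕ) :=
  [(nat_lit 0, [nat_lit 0x10a070c0e10, nat_lit 0x2040c0d0c1010]), (nat_lit 1, [nat_lit 0x6030607060d0e])]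

theorem c32 : Nat.ble 100 (chain lk E 100 (okN lk B t60 5) d22 []) = true := by
  decide +kernel

noncomputable def d27 : ℕ → ℕ :=
  (rd (nat_lit 14) (nat_lit 0x3fff) [nat_lit 0xc019010007301e4010010404101c0019000c03001a4063000003100c40600000092008005201400800084021014000])

theorem c40 : covChk lk B 3 g3_3_3 g3_3_6 g3_3_6 cl3 d27 0 = true := by
  decide +kernel

noncomputable def d18 : List (ℕ × List ℕ) :=
  [(nat_lit 6, [nat_lit 0xd0a010d090d0c10]), (nat_lit 12, [nat_lit 0x1060e0d10, nat_lit 0x407080d10]), (nat_lit 0, [nat_lit 3341, nat_lit 0x308070d])]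

theorem c26 : Nat.ble 2160 (chain lk E 100 (okN lk B t58 3) d18 []) = true := by
  decide +kernel

noncomputable def d14 : List (ℕ × List ℕ) :=
  [(nat_lit 5, [nat_lit 0x4050b0e0e10, nat_lit 0xb030907070c0e]), (nat_lit 2, [nat_lit 0xb0607, nat_lit 0xa0406080d0c]), (nat_lit 0, [nat_lit 0x601090d0e10])]

theorem c20 : Nat.ble 1920 (chain lk E 100 (okN lk B t56 2) d14 []) = true := by
  decide +kernel

noncomputable def d12 : List (ℕ × List ℕ) :=
  [(nat_lit 10, [nat_lit 0xf05060d0c, nat_lit 0x50d070e0d0c]), (nat_lit 3, [nat_lit 0x703060a060c0f10, nat_lit 0xe0a0110060c1010])]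

theorem c17 : Nat.ble 240 (chain lk E 100 (okN lk B t55 2) d12 []) = true := by
  decide +kernel

noncomputable def d20 : List (ℕ × List ℕ) :=
  [(nat_lit 0, [nat_lit 0xb040f06, nat_lit 0x7030b0f10]), (nat_lit 8, [nat_lit 0xb07010d070f])]

theorem c29 : Nat.ble 600 (chain lk E 100 (okN lk B t59 5) d20 []) = true := by
  decide +kernel

noncomputable def d4 : ℕ → ℕ :=
  (rd (nat_lit 6) (nat_lit 63) [nat_lit 0x400c100608300210c0411084022c09d06c4491500])

theorem c5 : Nat.blt (nat_lit 0) (pcChk lk B d4 g2_1_8 (nat_lit 1)) = true := by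
  decide +kernel

noncomputable def d16 : List (ℕ × List ℕ) :=
  [(nat_lit 0, [nat_lit 0x2010f070c, nat_lit 0x8040d0d0d10]), (nat_lit 1, [nat_lit 0x20807060e0d])]

theorem c23 : Nat.ble 72 (chain lk E 100 (okN lk B t57 3) d16 []) = true := by
  decide +kernel

theorem c39 : fuse lk B E g3_3_6 r3 fz3 = true := by
  decide +kernel

noncomputable def d2 : List (ℕ × List ℕ) :=
  [(nat_lit 71, [nat_lit 1, nat_lit 2]), (nat_lit 45, [nat_lit 6, nat_lit 7]), (nat_lit 55, [nat_lit 12, nat_lit 13]), (nat_lit 40, [nat_lit 16])]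

theorem c2 : baseChk lk E 100 604800 d2 = true := by
  decide +kernel

noncomputable def d6 : ℕ → ℕ :=
  (rd (nat_lit 6) (nat_lit 63) [nat_lit 0x10071800c938038ab81040])

theorem c8 : Nat.blt (nat_lit 0) (pcChk lk B d6 g3_1_6 (nat_lit 1)) = true := by
  decide +kernel

theorem c37 : fuse lk B E g2_1_8 r2 fz2 = true := by
  decide +kernel

noncomputable def d5 : List (ℕ × List ℕ) :=
  [(nat_lit 49, [nat_lit 1, nat_lit 2, nat_lit 5]), (nat_lit 81, [nat_lit 7])]

theorem c6 : Nat.ble 128 (chain lk g2E 100 (fun _ => true) d5 []) = true := by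
  decide +kernel

noncomputable def d8 : ℕ → ℕ :=
  (rd (nat_lit 5) (nat_lit 31) [nat_lit 0x20a1000])

theorem c11 : Nat.blt (nat_lit 0) (pcChk lk B d8 g5_0_3 (nat_lit 1)) = true := by
  decide +kernel

noncomputable def d7 : List (ℕ × List ℕ) :=
  [(nat_lit 4, [nat_lit 1, nat_lit 3]), (nat_lit 79, [nat_lit 1])]

theorem c9 : Nat.ble 108 (chain lk g3E 100 (fun _ => true) d7 []) = true := by
  decide +kernel

noncomputable def d10 : ℕ → ℕ :=
  (rd (nat_lit 3) (nat_lit 7) [nat_lit 256])

theorem c14 : Nat.blt (nat_lit 0) (pcChk lk B d10 g7_1_3 (nat_lit 1)) = true := by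
  decide +kernel

noncomputable def d9 : List (ℕ × List ℕ) :=
  [(nat_lit 49, [nat_lit 1, nat_lit 2, nat_lit 3])]

theorem c12 : Nat.ble 50 (chain lk g5E 100 (fun _ => true) d9 []) = true := by
  decide +kernel

noncomputable def d11 : List (ℕ × List ℕ) :=
  [(nat_lit 67, [nat_lit 1, nat_lit 2])]

theorem c15 : Nat.ble 21 (chain lk g7E 100 (fun _ => true) d11 []) = true := by
  decide +kernel

theorem c4 : invChk lk B (g2_1_8.map Prod.snd) = true := by
  decide +kernel

theorem c7 : invChk lk B (g3_1_6.map Prod.snd) = true := by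
  decide +kernel

theorem c10 : invChk lk B (g5_0_3.map Prod.snd) = true := by
  decide +kernel

theorem c13 : invChk lk B (g7_1_3.map Prod.snd) = true := by
  decide +kernel

theorem c16 : ordChk lk B t55 2 = true := by
  decide +kernel

theorem c19 : ordChk lk B t56 2 = true := by
  decide +kernel

theorem c22 : ordChk lk B t57 3 = true := by
  decide +kernel

theorem c25 : ordChk lk B t58 3 = true := by
  decide +kernel

theorem c28 : ordChk lk B t59 5 = true := by
  decide +kernel

theorem c31 : ordChk lk B t60 5 = true := by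
  decide +kernel

theorem c34 : ordChk lk B t61 7 = true := by
  decide +kernel

end Cfsg.Agent.SB.SporF.J2
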