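import Cfsg.Agent.SB.Spor.Anchor

/-! S5765, row of J2: data (generated by notes/SB/spor_tools, helper63) -/

set_option autoImplicit false

namespace Cfsg.Agent.SB.SporF.J2

open Cfsg.Agent.SB Cfsg.Agent.SB.Spor

noncomputable def lk (t i : ℕ) : ℕ := Nat.land (Nat.shiftRight t (Nat.mul (nat_lit 7) i)) (nat_lit 127)

noncomputable def mk : (ℕ → ℕ) → ℕ := pmk (nat_lit 7) (nat_lit 127) (nat_lit 100) (nat_lit 7)

noncomputable def ver : (ℕ → ℕ) → ℕ → (ℕ → ℕ) → Bool := pver (nat_lit 7) (nat_lit 127) (nat_lit 100)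

noncomputable def t0 : ℕ :=
  nat_lit 0xc78715340aae5db76aca4a956b57c14a8a8953a6c7913e24b9916349850dbc07ef5f3c76d9c3982e9a3530c98a15cbd6ac4d78bd036aca58448d85f3c7ce1d4e64d335254b25104888f202860d12385930c1c284040c001

noncomputable def t1 : ℕ :=
  nat_lit 0xaf020e0bf79abc8a9ec59c662aa55ece851392a64d973942156aadc47b0b0e27cfe1dc74edb386ee6eb4a4b9831a6c8f158f194c9b49aa23488a41f40b4ecf346ccd62c5d614183470a1e449130a403080e245800604104

noncomputable def t2 : ℕ :=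
  nat_lit 0xc7871576056e5db76ac94c11a2d3a94a899933a6cb99127c7915aaca8709f3f8105bbb78d5cb87ad1d3652c98df46896ac3e5999a3a792255eb9021569939b38a281730aaf581c449101e4c60d122058a02002050608386

noncomputable def t3 : ℕ :=
  nat_lit 0x234145fc02125824ede5c1d0e10a40fe0628f3674a53320979e306b7ad564d1a4ccc59b49cd19886d1a27cb56153e79931384e5e1747485d6ad0b535eb932b6ce5c3d908580f556f1a5295e2c601500de06082050e1848b

noncomputable def t4 : ℕ :=
  nat_lit 0xb772ed532530e2c6b56158b4f046acc98b08f3674a89324499f52bcb72e1abc76e9b407efa1c268f60b75d4a8d030ced5938951213c755162ea541a369d32b3e82faf4692c5e0c1420206005891a04607104c9111e4050e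

noncomputable def t5 : ℕ :=
  nat_lit 0x165d60579018c800ce80770082360c9ec5549325349c8959cba6cccd3f7d69e2a594ae60857e0412d9536eeae425111f628706d184cfe48972edeb59e769568e8ece134041d1243470c10288114a3f193556e2d7bd18a54

noncomputable def t6 : ℕ :=
  nat_lit 0x281a21e1aa8812c6630cda8991c640263bb2f7521a7cb59bc075ef59103a9019eca43d515ad62988af950f2d88c690d4ac0b16550aae92d84e10513847186056dc1397e857dba63c8ceb87da9d325a0ae92e0db6a22c040

noncomputable def t7 : ℕ :=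
  nat_lit 0xc70d6266f52682550a415aef4fc60ed0830760cb35a48c9ba6314a5c309c68a45260444271708be444b396da8ab481a3d93c96d3f5382f4ea6fac55035859b253c62d98020db33842620ae4d281f419385f74e979481e0e

noncomputable def t8 : ℕ :=
  nat_lit 0x11631a182e71280ee861a28d319a536c631005633c4d4f4472d8da17d22ccb7a1ad0fba9d5540eadd225e452153e4d43109047148755c1860d2153ac14b0dc16d2a03a0e649bf3d490b8b9e325a29f9c6e0af572f284c7

noncomputable def t9 : ℕ :=
  nat_lit 0x781669d5522a571c868ca3ec903d2e10b58876454150ba5a70f7d8dc4b19f03c278e446c4dd4952b56080d38adb3461fb01709bb82491a8f4c02f63aae7011a75849ba0bee8d20522cc473ed3b803293456663a2c4080b3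

noncomputable def t10 : ℕ :=
  nat_lit 0x5c99ecea5694a5478ade00142a07c6b6eb35631893aedc1198f7db043160edcb2f21e19a1631cac0cf3e412a4a2a6a008674b07148ac1a9a96297b21121dc2364203499127a112a8a9272588b84f7aa8b2e906d13f047bf

noncomputable def t11 : ℕ :=
  nat_lit 0x88e2ec82755ea392ad31ea136756365d4ba196889dbc09bb08eccc2e28026320aa90e3817ee393858cc582fedc20c918842aa01b6208291f1f885d4351ac07c2f1daf1a9e5d1124acbe44200a5a75c5435ab1ab41d827ca

noncomputable def t12 : ℕ :=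
  nat_lit 0x480151546e9f4da550e914c4f1073edc832bf20cd004b6bb18eadb0430d6dd514f05834b1829c1f84f290225da2a69d02cb4187148ac2c1a7365a3336324cf117662f811215194f6712965b00d505ee43bcb9c21c706b3f

noncomputable def t13 : ℕ :=
  nat_lit 0x63e2257f254878156ce013040ad1d39a5c6b7f13757367c28ecdf045d22d0c74f120b8c549bbac42db6332af5224a2c083c59ea758465afae5f0820d505398a611c3458c6d34c7e851406d8312875c1a3975921541404c

noncomputable def t14 : ℕ :=
  nat_lit 0x21652588d7f0c0ac5c10c44ddfda36e555597249ca3ac984d8f89eafa7216a6987ca2ec0e8e2baeb1c16a095adb10d90060ea225d0628aa91aec70f164405230f19e3a944f12029ccc382127ce43718b40b1613e348c4de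

noncomputable def t15 : ℕ :=
  nat_lit 0xc339b3a3d541bf56544b86e7204d5c34a2690c0cdf456a3318e093bd0d2edd4994da3e0e4d1d7018c62466d45523422b4492610901742c16724546286167ad544af5102b300494bcbdd3af10328a3ec8e767ee1b5306125

noncomputable def t16 : ℕ :=
  nat_lit 0x5d6c3484adcfc18d624cfbd35c30178894bc0c4e05320959e8e470a18aedd0f2e584630e9804e12a8abd2605cd978bd698a0681b6a22ad1464754dc517ea8d4f4ea3eae11a90666e10e4110623bb0252ca50e63448feb22

noncomputable def t17 : ℕ :=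
  nat_lit 0x8b393cfaf0042546dd85ab831d996835e179548393a02813f8ee71a924895d41f7551b9b62d9d74d9a8e6671c090d456d39259218c32ef908c45f593f200325c6af034c5263d0b0c0c43cb31561781021aabcaa80906131

noncomputable def t18 : ℕ :=
  nat_lit 0x8600d9e1371f4fac095e04c0715958c97b72f1adb3a882bde8e75e14a2e0cc982d8592192214e814caa9268dcbfc29d69f96f47048ac2c21761da505496acdc7765101f102989818e03b45888d517dd2462b9a9a102a922

noncomputable def t19 : ℕ :=
  nat_lit 0xc35a8c190ac402717c520c1348ba68757c9b4ee335b89584f8e717033631bbfb041492005e9553d74ab62606719869d6a41e58a180d2a00e0f6c257a69910dc6a280bb27e62c0b158a112fa123557a59a64f19c47b53139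

noncomputable def t20 : ℕ :=
  nat_lit 0xc230d997579ed4702afd0aee714808757c01f19db59f2935c8ec9e53a358f587e4149201661236e5098b2b380c1869d6a4b4faeac0c964a8b61da6006c06a2c6390362e6829899158aa965a95542ac49f38b99c410088cd

noncomputable def t21 : ℕ :=
  nat_lit 0x28c418cbd3485b05047803a2a005a77d60d856295c333e4918f8a2c37825d5738bd50b761e3134cd8aa944c1cb3a29273e46f4327c2d4bae4ac9a012c7aabf1012a18578db9fa03ab1bc049c59892255db48659a513102d

noncomputable def t22 : ℕ :=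
  nat_lit 0x2d1938fa57c44cb81c64e8044e99a73579394b6f020a2648a8ee628b893ed5538b1543770588d2ad9321608b1327c900512ef5a0350dd1ae56cc301287abbf20125984a7dae3703a45db24a860795a11b74a6a1ac36d058

noncomputable def t23 : ℕ :=
  nat_lit 0x62cd48cbd7cea784b47ba1aac9bc7735c3e690e94a8931b25487c74b9d6cc9b3941554a7619512d24a4fc4e7195107ad10acf70a1b88a447149941a8cbaebf808209222dd835aa60bacb316be0008c32f0a24381040c20b

noncomputable def t24 : ℕ :=
  nat_lit 0x62cd48cbd7cea784b47ba1aac9bc7735c3e690e94a8931b25487c74b9d6cc9b3941554a7619512d24a4fc4e7195107ad10acf70a1b88a447149941a8cbaebf808209222dd835aa60bacb316be0008c32f0a24381040c20b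

noncomputable def t25 : ℕ :=
  nat_lit 0xb60d8e09b7ac1460facd0169619b774a24bc442fa2ba55b2b25092405e9abba54f0e1da7453d413267b2b80a5210f15c41acfcfc66ea241814a71a0983ad3d5a689ae22d30860079185191e70f585dc99aacc6846a58088

noncomputable def t26 : ℕ :=
  nat_lit 0x433cae09b7a5b3c676cdd82ac3b87749d586a36f9fa0c5b251ca1751ab196445568e3ea7004ad4f241960cd30db8660d8b90fd126730ab4523318205249e3da868424140a55c331cbce187828fae8db805e50804c4c8093

noncomputable def t27 : ℕ :=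
  nat_lit 0x60d6560bf7a80642f2ccb59217ada74a05d06166a9b1864d63c98c3a0ea05d17e75eda7711b9b72db1022858ae3aa92a574aaa64213195ae2e7eda0451df1c706804546c98b3103850d1e4880c824539387727049ed0099

noncomputable def t28 : ℕ :=
  nat_lit 0x60d6560bf7a80642f2ccb59217ada74a05d06166a9b1864d63c98c3a0ea05d17e75eda7711b9b72db1022858ae3aa92a574aaa64213195ae2e7eda0451df1c706804546c98b3103850d1e4880c824539387727049ed0099

noncomputable def t29 : ℕ :=
  nat_lit 0xc70f09e4838a9379323d43358058924a8a628bd75a96a29c8b2e0621c509bbe7b01fdb76a43c682d8590129cd9f9d356854aa9d4a65415df468a21a6180e9c6282b8f2e0eecfb9488b431783456a2998272356042c200d5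

noncomputable def t30 : ℕ :=
  nat_lit 0xc70f09e4838a9379323d43358058924a8a628bd75a96a29c8b2e0621c509bbe7b01fdb76a43c682d8590129cd9f9d356854aa9d4a65415df468a21a6180e9c6282b8f2e0eecfb9488b431783456a2998272356042c200d5

noncomputable def t31 : ℕ :=
  nat_lit 0x44de1599b49c3453130545f59658a778e9b4e66fa15aa24c83c54c5a83861be7f01eba76f1addc4d9cdc2c5131fae925d556aadca9ec52ae478e620611e89ca06a7452ece3322038893184840f0e2818d16080041218085

noncomputable def t32 : ℕ :=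
  nat_lit 0x44de1599b49c3453130545f59658a778e9b4e66fa15aa24c83c54c5a83861be7f01eba76f1addc4d9cdc2c5131fae925d556aadca9ec52ae478e620611e89ca06a7452ece3322038893184840f0e2818d16080041218085

noncomputable def t33 : ℕ :=
  nat_lit 0x801ac0e8b1eeb9b76896113213c2a678f9b58ccc2150b64d6bc56fc411506e37e89eba6cf2e3804eda359c1589d063254f56714cbaa9928f46fa61aa34982aa080b4d2e66300176488749820ae262abc321899045edc094

noncomputable def t34 : ℕ :=
  nat_lit 0x801ac0e8b1eeb9b76896113213c2a678f9b58ccc2150b64d6bc56fc411506e37e89eba6cf2e3804eda359c1589d063254f56714cbaa9928f46fa61aa34982aa080b4d2e66300176488749820ae262abc321899045edc094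

noncomputable def t35 : ℕ :=
  nat_lit 0xc70c2be4c38aaf1532d45a106a87925e8a4ae4ee4796e0fadb2a103fc4b009ec1110aa44a6c25ad48c324e259d32c0e4618d6dd0d206434f46ee03960f489c6830a0f253445f5cd8eb117795d46af0d82352a1049d75b80

noncomputable def t36 : ℕ :=
  nat_lit 0xc70d63f283814d55663b99edea8c60da8d7480cb5a961a9ad98aec3ec416b218980f0a44a504a024859b62d081fb84e4421af1d46677dc5046edec5930089c121d335a4bee999c5cea7317941a1f6d915a8970845c22080

noncomputable def t37 : ℕ :=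
  nat_lit 0xc78a1443378416791e6204806a9a3e4a8cfa0b97d99695848b435ce08785bbd7cfe05b76ea286825c789206d3c99b3968550294ab62525574688f58a684e9c6552f8b6d7012607488b36a3a30730a9a5d18e16042656b00

noncomputable def t38 : ℕ :=
  nat_lit 0xc78a1443378416791e6204806a9a3e4a8cfa0b97d99695848b435ce08785bbd7cfe05b76ea286825c789206d3c99b3968550294ab62525574688f58a684e9c6552f8b6d7012607488b36a3a30730a9a5d18e16042656b00

noncomputable def t39 : ℕ :=
  nat_lit 0x6e5eba98fa94f0b657609a68be16056da8772469f584cc2271194a788c9e2ac4cea23b961fb597563c2bcd10065f695b72c7881d878ce24824408ebf02814141c5ce6cb6ea5082244532c6b9b1e31082ad4e8ca4c48480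

noncomputable def t40 : ℕ :=
  nat_lit 0x4cfea583eccabba2bad3a1a1db3d0d7429db862bdf6e127116b188434ed119e737b0c19f83147585dc327d087535f64b4b5b022d0880ca2479204b198a942519587c9aaae91c9409129168268a326c09234c2d93c621080

noncomputable def t41 : ℕ :=
  nat_lit 0x8e41a601ee4b9d14101b1221411e38d90ad576510636e0ca417371581cf00dbbcceb0c9f0dfb0122172c534624aae94b6176ddf5c4f31a8da919920b48d418352c9d32542adf93757c528ea442c7015528299e9f9c54380

noncomputable def t42 : ℕ :=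
  nat_lit 0x171566028fc928807e7445ef4aa33021916760e32634c098dc688831743038a72a42c2563af4a55492e17c86c3822d68349e2599d4e197483d368a00952e53966e49cbab410f325ebe2bf0d23c8f6dbb60332b5ab356080

noncomputable def t43 : ℕ :=
  nat_lit 0xb4ceda0071494f0e61c588c30acb8e20f285b29213643d2d70921f441c25a012179e2aa10f114ad4930a73518df4532e402cf5fbbc06431134351a7386d58ba285ae3ba741595c5e6a99ce97b73f042b6c3261536155600

noncomputable def t44 : ℕ :=
  nat_lit 0x30e43a760f8badc38ca5890dc13208d8dbbb83c8aea938346a75ef44741452c531553d50399d91820cc1c52d8831a4e7813af085040d64cd42bcd601744b1f3c8d35a24aeab8997523f950d15638d2152b6944c7be56000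

noncomputable def t45 : ℕ :=
  nat_lit 0xa6f0d4a6c456063241fa848bd139c6612a976598a37b80a9316c1a322ee0480b27e5e29e12a425d7d5c555126c6acdc3dd6ace858100e8d799547057c74f1b3986dd2873a48c9036f5a02849148e0a0a75b7103a4c287c0

noncomputable def t46 : ℕ :=
  nat_lit 0xa6f0d4a6c456063241fa848bd139c6612a976598a37b80a9316c1a322ee0480b27e5e29e12a425d7d5c555126c6acdc3dd6ace858100e8d799547057c74f1b3986dd2873a48c9036f5a02849148e0a0a75b7103a4c287c0

noncomputable def t47 : ℕ :=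
  nat_lit 0x805dddd32964016ca2b10863a6466e7c8b834f91b1ab0b0d00b1292078a41821a619db741e3e0195e7359ac15397f8c24a8b2c9c1b426e5f44f578b2c3ef21245713448ad6ae5964f080c6ce0aa802c26934594f4e50ed3

noncomputable def t48 : ℕ :=
  nat_lit 0x5c664b84877025789c9096d6658b011434808d59d554b03dd73515c6af294635f39143c2ed850a76da187a166324250a932cc615a0622f179a8ce44a44408d1d3efbec47cd02526e8d83d59fb74031310743e3ad8302e0a

noncomputable def t49 : ℕ :=
  nat_lit 0x88498551cba640a17a2c9c148c4fa28ac2a4e709b47c919311469195bb7ee208686148731c64b22e06bf534dab7af1a0979b38ca53aeb1d65929b2d7a20a5b2d68dafb2cd454c4ac8614c7de1e083c3bb0a24003022c106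

noncomputable def t50 : ℕ :=
  nat_lit 0x4a4c857856a1c13868bd15e93014655a9dba8a95dd708ac3c74bace37ef56dc692cf8d1099db660858cc2d26461317902325419959e3d44a8b49f401c313ce33194d5586e21d9b89b91157dab9051c31e120038b0804185

noncomputable def t51 : ℕ :=
  nat_lit 0x273e98e8e583ba3356eaf5b49b4a68b92c69af7102787e5b32e915c4913890c52fa1494ea1d832b6a0e18626f5b215904c3a2d15c72507d06efc0d7a8ca285558d840bec518434d7058a24469836e0f21b27032614b0400

noncomputable def t52 : ℕ :=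
  nat_lit 0x3535a112ec6ca860d839040bad1fc3587a4c50a7ac9351e43bf40ec466f5a9844fa74b737138a47549539078b19b14ab828a6dfba76128c62aa442d9425586164ed8c8f79ba6c70472f4b806c0540d901ba14e147131080

noncomputable def t53 : ℕ :=
  nat_lit 0x4d14cb93f0caa0b325933b81e3bd476dac89a49593a8da7279760eba525e51a8d3e8c15ea1884a50aa8bc0d1f9ebd86205c5587574485e3b604162d1ea9f38ba20d814b404980d7cb11b4906836f3171ca650602c700500

noncomputable def t54 : ℕ :=
  nat_lit 0x6ad73324bcdd7a43edc650a9acb0edde967d2678a8f06d50aaff12dbcd9e026276a25491301c172a8b2b165ca376250219a7a1ba918cb8ea69d35cbec228833030948446e8699388223ea46856804a9aac4d6381810c00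

noncomputable def t55 : ℕ :=
  nat_lit 0xb2c68a6845ee5d123318734edc9fa0cb0d390b45c454614cf2ae1e4c437cf1c4e655c5ac42ac6501420f2d4b112145270d7b2e4b77f80023484e191a904140075df4abcce3ae44c103a681965a9abed81b039b353674425

noncomputable def t56 : ℕ :=
  nat_lit 0x7e052c390a2eb8b7688d8ae8550812ad3309e5d4c52d296df327262cc03a0c0c60c6b568d9cdc5ee9e3b66118d06eba4c4a5566de2b47087180ab1b3e78d4640763989d2d390264ac940109ea3142e9d448182b27c8b10f

noncomputable def t57 : ℕ :=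
  nat_lit 0x2c0abb1b53ab0f381c732327499b10618037678a59150e4a84f6e80b7910fd5b98d04a134495302010a69a88d3aa4d60b66ea5291205d53d47617245b7aec60b830af68f8ab380324477f325b984367b8be1aa628a115ac

noncomputable def t58 : ℕ :=
  nat_lit 0x6cc0619bd120d40a62cd872b54a4a680b17b78880a4500aa835305df8f089b174ed5a500117086ecb08f3f8e54e5f5d3c83734a2cad2d1dc789a48d256b0457b0ce9e02090d5bacc8aa063a9353918487701a7bf694683e

noncomputable def t59 : ℕ :=
  nat_lit 0xa735c56155c7adc672d159290b22b05e92e5351c8d7b4593cbe66533828260e3f85a3e4375ac82220f3f46621dc3b6481b2538d1454d9455589d34097892d0891a7de8b82daf60ea39356318c202dc3bb000820b0a24186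

noncomputable def t60 : ℕ :=
  nat_lit 0x2d057c5667adb59298d4a226ce99b4fc1407b7d9309e18e10a36045c84a18d5165424e755c0e0411c3c84ed0614988e3592f0d10378de95e7291dd35ca4018158c6dda8b2b6171890cd6d2d5920afa21312b528e543cfd0

noncomputable def t61 : ℕ :=
  nat_lit 0xb329add32b93c17858abe0092a9a85342b98b52bdb40511dfc67cbcc693f00e14b16da760d407a7864ba888585c24460528d2f10b6295c1c104e1818e8af2a6475eb604cd5894c1270f1b2280620bc6183ca5fd136deb58

noncomputable def B : List ℕ :=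
  [nat_lit 71, nat_lit 45, nat_lit 55, nat_lit 40]

noncomputable def E0 : List ℕ :=
  [t0, t1, t2, t3, t4]

noncomputable def E : List ℕ :=
  [t5, t6, t7, t8, t9, t10, t11, t12, t13, t14, t15, t16, t17, t18, t19, t20]

noncomputable def sl0 : List ℕ :=
  [t5, t6, t7, t8, t9, t10, t11, t12, t13, t14, t15, t16, t17, t18, t19, t20]

noncomputable def ul0 : List ℕ :=
  [t21, t22, t23, t24, t25, t26, t27, t28, t29, t30, t31, t32, t33, t34, t35, t36, t37, t38, t39, t40, t41, t42, t43, t44, t45, t46, t47, t48, t49, t50, t51, t52, t53, t54, t55, t56, t57, t58, t59, t60, t61]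

noncomputable def g2_1_8 : List (ℕ × ℕ × ℕ) :=
  [(nat_lit 2, t21, t22), (nat_lit 2, t23, t24), (nat_lit 2, t25, t26), (nat_lit 2, t27, t28), (nat_lit 2, t29, t30), (nat_lit 2, t31, t32), (nat_lit 2, t33, t34)]

noncomputable def g2E : List ℕ :=
  [t21, t23, t25, t27, t29, t31, t33]

noncomputable def g3_1_6 : List (ℕ × ℕ × ℕ) :=
  [(nat_lit 2, t35, t36), (nat_lit 2, t37, t38), (nat_lit 3, t39, t40), (nat_lit 3, t41, t42), (nat_lit 3, t43, t44)]

noncomputable def g3E : List ℕ :=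
  [t35, t37, t39, t41, t43]

noncomputable def g5_0_3 : List (ℕ × ℕ × ℕ) :=
  [(nat_lit 2, t45, t46), (nat_lit 5, t47, t48), (nat_lit 5, t49, t50)]

noncomputable def g5E : List ℕ :=
  [t45, t47, t49]

noncomputable def g7_1_3 : List (ℕ × ℕ × ℕ) :=
  [(nat_lit 3, t51, t52), (nat_lit 7, t53, t54)]

noncomputable def g7E : List ℕ :=
  [t51, t53]

noncomputable def wp0 : List (List ℕ × List ℕ) :=
  [([nat_lit 1], [nat_lit 0, nat_lit 2]), ([nat_lit 2], [nat_lit 1, nat_lit 0]), ([nat_lit 1], [nat_lit 0, nat_lit 2, nat_lit 0, nat_lit 2]), ([nat_lit 0], [nat_lit 1, nat_lit 2, nat_lit 0, nat_lit 1]), ([nat_lit 1], [nat_lit 0, nat_lit 2, nat_lit 1, nat_lit 2]), ([nat_lit 0], [nat_lit 2, nat_lit 1, nat_lit 0, nat_lit 1, nat_lit 0, nat_lit 2]), ([nat_lit 0], [nat_lit 2, nat_lit 0, nat_lit 1, nat_lit 2]), ([nat_lit 2], [nat_lit 1, nat_lit 0, nat_lit 2, nat_lit 0]), ([nat_lit 2], [nat_lit 0, nat_lit 1, nat_lit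 2, nat_lit 1]), ([nat_lit 0], [nat_lit 1, nat_lit 2, nat_lit 0, nat_lit 1, nat_lit 2]), ([nat_lit 0, nat_lit 1], [nat_lit 0, nat_lit 2]), ([nat_lit 1], [nat_lit 2, nat_lit 0, nat_lit 2, nat_lit 1, nat_lit 2]), ([nat_lit 1], [nat_lit 2, nat_lit 0, nat_lit 2, nat_lit 1, nat_lit 0, nat_lit 2]), ([nat_lit 0], [nat_lit 2, nat_lit 1, nat_lit 0, nat_lit 1]), ([nat_lit 0], [nat_lit 1, nat_lit 2, nat_lit 1, nat_lit 0, nat_lit 1]), ([nat_lit 1], [nat_lit 2, nat_lit 0, nat_lit 2, nat_lit 0, nat_lit 1, nat_lit 2]), ([nat_lit 2], [nat_lit 1, nat_lit 2, nat_lit 0, nat_lit 2, nat_lit 0, nat_lit 1]), ([nat_lit 0, nat_lit 1], [nat_lit 0, nat_lit 2, nat_lit 1, nat_lit 2]), ([nat_lit 0, nat_lit 1], [nat_lit 2, nat_lit 0, nat_lit 2, nat_lit 0]), ([nat_lit 1], [nat_lit 0, nat_lit 1, nat_lit 2, nat_lit 1, nat_lit 0, nat_lit 2]), ([nat_lit 0, nat_lit 2], [nat_lit 0, nat_lit 1, nat_lit 0, nat_lit 1]), ([nat_lit 2, nat_lit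 0], [nat_lit 2, nat_lit 1]), ([nat_lit 1], [nat_lit 0, nat_lit 1, nat_lit 0, nat_lit 1, nat_lit 0, nat_lit 2]), ([nat_lit 1], [nat_lit 0, nat_lit 2, nat_lit 1, nat_lit 2, nat_lit 1, nat_lit 0]), ([nat_lit 1], [nat_lit 2, nat_lit 1, nat_lit 0, nat_lit 2, nat_lit 1, nat_lit 2]), ([nat_lit 0], [nat_lit 1, nat_lit 2, nat_lit 0, nat_lit 1, nat_lit 0, nat_lit 1]), ([nat_lit 0, nat_lit 1], [nat_lit 0, nat_lit 1, nat_lit 0, nat_lit 2]), ([nat_lit 1], [nat_lit 0, nat_lit 1, nat_lit 0, nat_lit 2]), ([nat_lit 1], [nat_lit 2, nat_lit 0, nat_lit 2, nat_lit 1, nat_lit 2, nat_lit 0]), ([nat_lit 1], [nat_lit 0, nat_lit 2, nat_lit 0, nat_lit 1, nat_lit 0, nat_lit 2]), ([nat_lit 0, nat_lit 1], [nat_lit 0, nat_lit 2, nat_lit 0, nat_lit 2, nat_lit 1, nat_lit 2]), ([nat_lit 2], [nat_lit 0, nat_lit 1, nat_lit 0, nat_lit 2, nat_lit 0, nat_lit 1]), ([nat_lit 1], [nat_lit 0, nat_lit 1, nat_lit 0, nat_lit 1, nat_lit 2]), ([nat_lit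 0, nat_lit 2], [nat_lit 0, nat_lit 2, nat_lit 0, nat_lit 1]), ([nat_lit 1, nat_lit 0], [nat_lit 1, nat_lit 0, nat_lit 1, nat_lit 2]), ([nat_lit 0, nat_lit 2], [nat_lit 2, nat_lit 1, nat_lit 2, nat_lit 1]), ([nat_lit 2], [nat_lit 0, nat_lit 2, nat_lit 0, nat_lit 2, nat_lit 1, nat_lit 0]), ([nat_lit 1], [nat_lit 2, nat_lit 1, nat_lit 0, nat_lit 2]), ([nat_lit 2], [nat_lit 0, nat_lit 1, nat_lit 2, nat_lit 1, nat_lit 2, nat_lit 1])]

noncomputable def wp1 : List (List ℕ × List ℕ) :=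
  [([nat_lit 1, nat_lit 0], [nat_lit 1, nat_lit 2]), ([nat_lit 2, nat_lit 0], [nat_lit 2, nat_lit 1]), ([nat_lit 1], [nat_lit 0, nat_lit 2]), ([nat_lit 2], [nat_lit 1, nat_lit 2, nat_lit 0]), ([nat_lit 0], [nat_lit 2, nat_lit 0, nat_lit 1]), ([nat_lit 2], [nat_lit 1, nat_lit 0]), ([nat_lit 0, nat_lit 2], [nat_lit 2, nat_lit 1]), ([nat_lit 1, nat_lit 0], [nat_lit 1, nat_lit 3]), ([nat_lit 2], [nat_lit 0, nat_lit 3]), ([nat_lit 1], [nat_lit 0, nat_lit 3])]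

noncomputable def g2_4_8 : List (ℕ × ℕ × ℕ) :=
  [(nat_lit 2, t27, t28), (nat_lit 2, t29, t30), (nat_lit 2, t31, t32), (nat_lit 2, t33, t34)]

noncomputable def g2_1_4 : List (ℕ × ℕ × ℕ) :=
  [(nat_lit 2, t21, t22), (nat_lit 2, t23, t24), (nat_lit 2, t25, t26)]

noncomputable def wp2 : List (List ℕ × List ℕ) :=
  [([nat_lit 0], [nat_lit 1, nat_lit 1, nat_lit 0, nat_lit 1, nat_lit 1]), ([nat_lit 0], [nat_lit 1, nat_lit 0, nat_lit 1]), ([nat_lit 0], [nat_lit 0, nat_lit 1, nat_lit 0, nat_lit 1]), ([nat_lit 1], [nat_lit 1, nat_lit 0, nat_lit 1, nat_lit 0]), ([nat_lit 1, nat_lit 0, nat_lit 1], [nat_lit 0, nat_lit 0, nat_lit 1, nat_lit 1, nat_lit 0, nat_lit 1, nat_lit 0]), ([nat_lit 1, nat_lit 0, nat_lit 1, nat_lit 1], [nat_lit 0, nat_lit 0, nat_lit 1, nat_lit 0, nat_lit 1, nat_lit 0]), ([nat_lit 0], [nat_lit 0, nat_lit 1, nat_lit 0, nat_lit 1, nat_lit 0, nat_lit 1]), ([nat_lit 1], [nat_lit 1, nat_lit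 0, nat_lit 1, nat_lit 0, nat_lit 1, nat_lit 0])]

noncomputable def g7_1_2 : List (ℕ × ℕ × ℕ) :=
  [(nat_lit 3, t51, t52)]

noncomputable def g7_2_3 : List (ℕ × ℕ × ℕ) :=
  [(nat_lit 7, t53, t54)]

noncomputable def wp3 : List (List ℕ × List ℕ) :=
  [([nat_lit 1], [nat_lit 2, nat_lit 0, nat_lit 2]), ([nat_lit 2], [nat_lit 2, nat_lit 0, nat_lit 1]), ([nat_lit 1], [nat_lit 0, nat_lit 2, nat_lit 0, nat_lit 2]), ([nat_lit 1], [nat_lit 2, nat_lit 0, nat_lit 0]), ([nat_lit 0], [nat_lit 1, nat_lit 2, nat_lit 2]), ([nat_lit 0], [nat_lit 0, nat_lit 1, nat_lit 0, nat_lit 1]), ([nat_lit 3], [nat_lit 2, nat_lit 0, nat_lit 0]), ([nat_lit 0], [nat_lit 0, nat_lit 2, nat_lit 3]), ([nat_lit 2], [nat_lit 0, nat_lit 1, nat_lit 1]), ([nat_lit 1], [nat_lit 2, nat_lit 2, nat_lit 0]), ([nat_lit 1], [nat_lit 0, nat_lit 2, nat_lit 2]), ([nat_lit 2], [nat_lit 0, nat_lit 1, nat_lit 1])]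

noncomputable def wp4 : List (List ℕ × List ℕ) :=
  [([nat_lit 0], [nat_lit 0, nat_lit 2]), ([nat_lit 1], [nat_lit 1, nat_lit 0]), ([nat_lit 0, nat_lit 1], [nat_lit 0, nat_lit 1, nat_lit 1, nat_lit 0]), ([nat_lit 2], [nat_lit 1, nat_lit 0]), ([nat_lit 1], [nat_lit 1, nat_lit 0, nat_lit 0]), ([nat_lit 0], [nat_lit 1, nat_lit 1, nat_lit 0, nat_lit 1]), ([nat_lit 1], [nat_lit 0, nat_lit 1, nat_lit 0, nat_lit 0]), ([nat_lit 1], [nat_lit 1, nat_lit 0]), ([nat_lit 1], [nat_lit 2, nat_lit 0, nat_lit 0]), ([nat_lit 1], [nat_lit 2, nat_lit 2, nat_lit 0]), ([nat_lit 2], [nat_lit 0, nat_lit 0, nat_lit 2, nat_lit 0]), ([nat_lit 2], [nat_lit 1, nat_lit 0, nat_lit 1]), ([nat_lit 0], [nat_lit 0, nat_lit 0, nat_lit 1, nat_lit 0, nat_lit 1, nat_lit 1, nat_lit 1]), ([nat_lit 1], [nat_lit 1, nat_lit 0, nat_lit 2]), ([nat_lit 1], [nat_lit 2, nat_lit 0, nat_lit 2]), ([nat_lit 1], [nat_lit 1, nat_lit 0, nat_lit 0]), ([nat_lit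 1], [nat_lit 0, nat_lit 2, nat_lit 2]), ([nat_lit 1], [nat_lit 1, nat_lit 0, nat_lit 0, nat_lit 0, nat_lit 1, nat_lit 0, nat_lit 0]), ([nat_lit 0], [nat_lit 0, nat_lit 2, nat_lit 2]), ([nat_lit 2], [nat_lit 0, nat_lit 1, nat_lit 1]), ([nat_lit 2], [nat_lit 1, nat_lit 0, nat_lit 0]), ([nat_lit 1], [nat_lit 2, nat_lit 0]), ([nat_lit 0], [nat_lit 0, nat_lit 1, nat_lit 0, nat_lit 2]), ([nat_lit 0], [nat_lit 0, nat_lit 0, nat_lit 1]), ([nat_lit 0, nat_lit 2], [nat_lit 1, nat_lit 0]), ([nat_lit 1, nat_lit 0], [nat_lit 0, nat_lit 0, nat_lit 1, nat_lit 0, nat_lit 1, nat_lit 1]), ([nat_lit 2], [nat_lit 1, nat_lit 1, nat_lit 0]), ([nat_lit 1, nat_lit 2], [nat_lit 1, nat_lit 0, nat_lit 0]), ([nat_lit 1], [nat_lit 0, nat_lit 2, nat_lit 0]), ([nat_lit 0, nat_lit 1], [nat_lit 2, nat_lit 0]), ([nat_lit 1], [nat_lit 0, nat_lit 0, nat_lit 0, nat_lit 2]), ([nat_lit 1, nat_lit 0], [nat_lit 2, nat_lit 1, nat_lit 2, nat_lit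 1]), ([nat_lit 0, nat_lit 2], [nat_lit 1, nat_lit 0, nat_lit 1, nat_lit 0]), ([nat_lit 2], [nat_lit 1, nat_lit 1, nat_lit 0, nat_lit 0]), ([nat_lit 2, nat_lit 0], [nat_lit 0, nat_lit 1, nat_lit 0, nat_lit 1]), ([nat_lit 1], [nat_lit 2, nat_lit 2, nat_lit 1, nat_lit 0]), ([nat_lit 1], [nat_lit 1, nat_lit 0, nat_lit 2, nat_lit 0]), ([nat_lit 2], [nat_lit 0, nat_lit 1, nat_lit 0]), ([nat_lit 1], [nat_lit 0, nat_lit 0, nat_lit 2])]

noncomputable def wp5 : List (List ℕ × List ℕ) :=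
  [([nat_lit 1], [nat_lit 1, nat_lit 1, nat_lit 1, nat_lit 0]), ([nat_lit 0], [nat_lit 1, nat_lit 1, nat_lit 0, nat_lit 1]), ([nat_lit 0], [nat_lit 0, nat_lit 1, nat_lit 0, nat_lit 1]), ([nat_lit 1], [nat_lit 1, nat_lit 0]), ([nat_lit 0], [nat_lit 0, nat_lit 1, nat_lit 0, nat_lit 1, nat_lit 0, nat_lit 0, nat_lit 1]), ([nat_lit 1], [nat_lit 1, nat_lit 0, nat_lit 1, nat_lit 0]), ([nat_lit 1], [nat_lit 0, nat_lit 1, nat_lit 1, nat_lit 1, nat_lit 0, nat_lit 0]), ([nat_lit 1], [nat_lit 0, nat_lit 1, nat_lit 0, nat_lit 0]), ([nat_lit 0], [nat_lit 0, nat_lit 1, nat_lit 1, nat_lit 0, nat_lit 1, nat_lit 1, nat_lit 1]), ([nat_lit 1], [nat_lit 0, nat_lit 1, nat_lit 1, nat_lit 0]), ([nat_lit 0], [nat_lit 0, nat_lit 1, nat_lit 1]), ([nat_lit 1], [nat_lit 1, nat_lit 0, nat_lit 1, nat_lit 1, nat_lit 0, nat_lit 1, nat_lit 0]), ([nat_lit 0], [nat_lit 0, nat_lit 0, nat_lit 1, nat_lit 1, nat_lit 0, nat_lit 1]), ([nat_lit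 0, nat_lit 1, nat_lit 0, nat_lit 1], [nat_lit 1, nat_lit 0, nat_lit 1, nat_lit 0, nat_lit 0]), ([nat_lit 1], [nat_lit 0, nat_lit 1, nat_lit 0, nat_lit 0, nat_lit 0]), ([nat_lit 0, nat_lit 1], [nat_lit 0, nat_lit 1, nat_lit 0, nat_lit 0]), ([nat_lit 0], [nat_lit 0, nat_lit 1, nat_lit 1, nat_lit 1, nat_lit 0, nat_lit 1]), ([nat_lit 0], [nat_lit 1, nat_lit 1, nat_lit 1, nat_lit 0, nat_lit 1])]

noncomputable def g2_2_8 : List (ℕ × ℕ × ℕ) :=
  [(nat_lit 2, t23, t24), (nat_lit 2, t25, t26), (nat_lit 2, t27, t28), (nat_lit 2, t29, t30), (nat_lit 2, t31, t32), (nat_lit 2, t33, t34)]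

noncomputable def g2_2_5 : List (ℕ × ℕ × ℕ) :=
  [(nat_lit 2, t23, t24), (nat_lit 2, t25, t26), (nat_lit 2, t27, t28)]

noncomputable def g2_5_8 : List (ℕ × ℕ × ℕ) :=
  [(nat_lit 2, t29, t30), (nat_lit 2, t31, t32), (nat_lit 2, t33, t34)]

noncomputable def g2_1_2 : List (ℕ × ℕ × ℕ) :=
  [(nat_lit 2, t21, t22)]

noncomputable def wp6 : List (List ℕ × List ℕ) :=
  [([nat_lit 1], [nat_lit 1, nat_lit 0]), ([nat_lit 0], [nat_lit 0, nat_lit 0, nat_lit 1, nat_lit 1, nat_lit 1]), ([nat_lit 1], [nat_lit 0, nat_lit 1, nat_lit 0]), ([nat_lit 0], [nat_lit 0, nat_lit 1, nat_lit 1]), ([nat_lit 1], [nat_lit 0, nat_lit 0, nat_lit 1, nat_lit 0, nat_lit 0]), ([nat_lit 0], [nat_lit 1, nat_lit 1, nat_lit 0, nat_lit 1]), ([nat_lit 1], [nat_lit 1, nat_lit 1, nat_lit 1, nat_lit 0]), ([nat_lit 1], [nat_lit 1, nat_lit 0, nat_lit 1, nat_lit 1, nat_lit 0]), ([nat_lit 1], [nat_lit 0, nat_lit 1, nat_lit 1, nat_lit 0]), ([nat_lit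 1], [nat_lit 0, nat_lit 0, nat_lit 0, nat_lit 1, nat_lit 1, nat_lit 0]), ([nat_lit 0], [nat_lit 0, nat_lit 1, nat_lit 1, nat_lit 0, nat_lit 1, nat_lit 1]), ([nat_lit 1], [nat_lit 1, nat_lit 0, nat_lit 0]), ([nat_lit 0], [nat_lit 0, nat_lit 1, nat_lit 0, nat_lit 1, nat_lit 0, nat_lit 1]), ([nat_lit 0], [nat_lit 0, nat_lit 1, nat_lit 1, nat_lit 0, nat_lit 1]), ([nat_lit 0], [nat_lit 0, nat_lit 0, nat_lit 0, nat_lit 1, nat_lit 0, nat_lit 1]), ([nat_lit 0], [nat_lit 0, nat_lit 0, nat_lit 0, nat_lit 1, nat_lit 1]), ([nat_lit 0], [nat_lit 0, nat_lit 1, nat_lit 1, nat_lit 1])]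

noncomputable def g5_0_2 : List (ℕ × ℕ × ℕ) :=
  [(nat_lit 2, t45, t46), (nat_lit 5, t47, t48)]

noncomputable def g5_2_3 : List (ℕ × ℕ × ℕ) :=
  [(nat_lit 5, t49, t50)]

noncomputable def r2 : List ℕ :=
  [t55, t56]

noncomputable def fz2 : List (ℕ × ℕ × ℕ × ℕ) :=
  [(nat_lit 2, nat_lit 0, nat_lit 1, nat_lit 0x4010f070d1010), (nat_lit 5, nat_lit 0, nat_lit 1, nat_lit 0x50509070c0f10), (nat_lit 16, nat_lit 1, nat_lit 1, nat_lit 0x5050607060d1010), (nat_lit 81, nat_lit 0, nat_lit 1, nat_lit 0xb050308070d0d0d10), (nat_lit 8, nat_lit 1, nat_lit 1, nat_lit 0xd030a070e0f0e), (nat_lit 32, nat_lit 1, nat_lit 1, nat_lit 0x502010d090f1010)]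

noncomputable def cl2 : List ℕ :=
  [nat_lit 2, nat_lit 5, nat_lit 16, nat_lit 81, nat_lit 8, nat_lit 32]

noncomputable def g2_1_1 : List (ℕ × ℕ × ℕ) :=
  []

noncomputable def r3 : List ℕ :=
  [t57, t58]

noncomputable def g3_3_6 : List (ℕ × ℕ × ℕ) :=
  [(nat_lit 3, t39, t40), (nat_lit 3, t41, t42), (nat_lit 3, t43, t44)]

noncomputable def fz3 : List (ℕ × ℕ × ℕ × ℕ) :=
  [(nat_lit 1, nat_lit 0, nat_lit 1, nat_lit 0xc010a070e100d10), (nat_lit 2, nat_lit 0, nat_lit 1, nat_lit 0x206030806060d0c1010), (nat_lit 3, nat_lit 0, nat_lit 1, nat_lit 0xe0302070606100f1010), (nat_lit 4, nat_lit 0, nat_lit 1, nat_lit 0x6040610060e0f0e1010), (nat_lit 5, nat_lit 0, nat_lit 1, nat_lit 0x804060a060c0f), (nat_lit 6, nat_lit 0, nat_lit 1, nat_lit 0xb07010607070e0d), (nat_lit 7, nat_lit 0, nat_lit 1, nat_lit 0xb05030a060e1010), (nat_lit 8, nat_lit 0, nat_lit 1, nat_lit 0x102020a0b0c0d1010), (nat_lit 12, nat_lit 1,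 nat_lit 1, nat_lit 0xd020f070e100d1010), (nat_lit 24, nat_lit 1, nat_lit 1, nat_lit 0x803010e080c0f1010)]

noncomputable def cl3 : List ℕ :=
  [nat_lit 1, nat_lit 2, nat_lit 3, nat_lit 4, nat_lit 5, nat_lit 6, nat_lit 7, nat_lit 8, nat_lit 12, nat_lit 24]

noncomputable def g3_3_3 : List (ℕ × ℕ × ℕ) :=
  []

noncomputable def g3_1_3 : List (ℕ × ℕ × ℕ) :=
  [(nat_lit 2, t35, t36), (nat_lit 2, t37, t38)]

noncomputable def r5 : List ℕ :=
  [t59, t60]

noncomputable def g5_1_3 : List (ℕ × ℕ × ℕ) :=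
  [(nat_lit 5, t47, t48), (nat_lit 5, t49, t50)]

noncomputable def fz5 : List (ℕ × ℕ × ℕ × ℕ) :=
  [(nat_lit 1, nat_lit 0, nat_lit 1, nat_lit 0x20b0807100d0c10), (nat_lit 2, nat_lit 0, nat_lit 3, nat_lit 0x6040806060c0c0c1010), (nat_lit 3, nat_lit 0, nat_lit 3, nat_lit 0x6040d07060c0f1010), (nat_lit 4, nat_lit 0, nat_lit 1, nat_lit 0x3040d080d0c), (nat_lit 5, nat_lit 0, nat_lit 1, nat_lit 0x9020e07060c0c0c), (nat_lit 6, nat_lit 1, nat_lit 1, nat_lit 0xc0108100f10), (nat_lit 7, nat_lit 1, nat_lit 3, nat_lit 0x602010a070c0d10), (nat_lit 8, nat_lit 1, nat_lit 1, nat_lit 0x1003090c), (nat_lit 9, nat_lit 0, nat_lit 1, nat_lit 0x4030106080e0e0d1010), (nat_lit 10, nat_lit 0, nat_lit 3, nat_lit 0x50402080c070f0d0c10), (nat_lit 11, nat_lit 1, nat_lit 3, nat_lit 0xc0c01080f0c10), (nat_lit 12, nat_lit 1, nat_lit 3, nat_lit 0xa02010c080e0f), (nat_lit 13, nat_lit 0, nat_lit 3, nat_lit 0x1040b09060e0f), (nat_lit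 14, nat_lit 1, nat_lit 1, nat_lit 0x204020609060d0c0c10), (nat_lit 15, nat_lit 0, nat_lit 3, nat_lit 0x60801060f06), (nat_lit 16, nat_lit 1, nat_lit 1, nat_lit 0x405020b0e060e0e0d10), (nat_lit 17, nat_lit 0, nat_lit 3, nat_lit 0x602010609060c0f0c10), (nat_lit 18, nat_lit 1, nat_lit 3, nat_lit 0xa030708100d0c10), (nat_lit 19, nat_lit 1, nat_lit 3, nat_lit 0xf02010609060e0e1010), (nat_lit 20, nat_lit 0, nat_lit 1, nat_lit 0x80209060e10), (nat_lit 21, nat_lit 0, nat_lit 1, nat_lit 0xe03020a10060f10), (nat_lit 22, nat_lit 1, nat_lit 1, nat_lit 0xf030206070d0c1010), (nat_lit 23, nat_lit 1, nat_lit 3, nat_lit 0xd010e0a060f0c10), (nat_lit 24, nat_lit 1, nat_lit 1, nat_lit 0x8010d090e)]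

noncomputable def cl5 : List ℕ :=
  [nat_lit 1, nat_lit 2, nat_lit 3, nat_lit 4, nat_lit 5, nat_lit 6, nat_lit 7, nat_lit 8, nat_lit 9, nat_lit 10, nat_lit 11, nat_lit 12, nat_lit 13, nat_lit 14, nat_lit 15, nat_lit 16, nat_lit 17, nat_lit 18, nat_lit 19, nat_lit 20, nat_lit 21, nat_lit 22, nat_lit 23, nat_lit 24]

noncomputable def g5_1_1 : List (ℕ × ℕ × ℕ) :=
  []

noncomputable def g5_0_1 : List (ℕ × ℕ × ℕ) :=
  [(nat_lit 2, t45, t46)]

noncomputable def r7 : List ℕ :=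
  [t61]

end Cfsg.Agent.SB.SporF.J2
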